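import Cfsg.Agent.H370.DP.Def2
import Cfsg.Agent.H188.Fac.Num

/-!
# Element orders of `PSL_m(2)` (helper188, for helper370)

`pair_le`, `triple_le`, `tight`, `dvd_card`, `exists_one`, `exists_pair`, `prime_pow`.
-/

set_option autoImplicit false

namespace Cfsg.Agent.H188.Fac.PLTwo

open Cfsg.Agent.H370.DP Cfsg.Agent.H188.Fac

variable {F : Type*} [Field F] [Fintype F]

theorem two_cases (hF : Fintype.card F = 2) (x : F) : x = 0 ∨ x = 1 := by
  classical
  by_contra hcon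
  push Not at hcon
  have h1 : ({0, 1, x} : Finset F).card = 3 := by
    rw [Finset.card_eq_three]
    exact ⟨0, 1, x, zero_ne_one, hcon.1.symm, hcon.2.symm, rfl⟩
  have h2 := Finset.card_le_univ ({0, 1, x} : Finset F)
  omega

theorem ringChar_two (hF : Fintype.card F = 2) : ringChar F = 2 := by
  have h : CharP F (ringChar F) := ringChar.charP F
  have hpp : (ringChar F).Prime := CharP.char_is_prime F (ringChar F)
  obtain ⟨n, -, hn⟩ := FiniteField.card F (ringChar F)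
  have h1 : ringChar F ∣ 2 := by rw [← hF, hn]; exact dvd_pow_self _ n.ne_zero
  exact (Nat.prime_dvd_prime_iff_eq hpp Nat.prime_two).1 h1

/-- the degrees of the factors -/
theorem exists_deg (hF : Fintype.card F = 2) {m : ℕ} (g : PL F m) : ∃ M : Multiset ℕ, M.sum = m ∧ (∀ d ∈ M, 1 ≤ d) ∧
    (∃ a, orderOf g ∣ (M.map fun d => 2 ^ d - 1).lcm * 2 ^ a) ∧
    (M.Nodup → orderOf g ∣ (M.map fun d => 2 ^ d - 1).lcm) := by
  obtain ⟨x, rfl⟩ := QuotientGroup.mk_surjective g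
  obtain ⟨M, h1, h2, ⟨a, h3⟩, h4⟩ := exists_fac (Matrix.SpecialLinearGroup.toGL x)
  have hx : orderOf (Matrix.SpecialLinearGroup.toGL x) = orderOf x :=
    orderOf_injective (Matrix.SpecialLinearGroup.toGL (n := Fin m) (R := F))
      (fun a b hab => Subtype.ext (congrArg Units.val hab)) x
  have hd : orderOf (QuotientGroup.mk x : PL F m) ∣ orderOf x := orderOf_map_dvd (QuotientGroup.mk' _) x
  have hq : Nat.card F = 2 := by rw [Nat.card_eq_fintype_card, hF]
  rw [hx, hq, ringChar_two hF] at h3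
  rw [hx, hq] at h4
  exact ⟨M, h1, h2, ⟨a, hd.trans h3⟩, fun h => hd.trans (h4 h)⟩

theorem exists_dvd {M : Multiset ℕ} (hM : ∀ d ∈ M, 1 ≤ d) {N a r t : ℕ} (hN : N ∣ (M.map fun d => 2 ^ d - 1).lcm * 2 ^ a)
    (hr : r.Prime) (hr2 : r ≠ 2) (ht : 1 ≤ t) (h : r ^ t ∣ N) : ∃ d ∈ M, r ^ t ∣ 2 ^ d - 1 := by
  have h1 : Nat.Coprime (r ^ t) (2 ^ a) := Nat.Coprime.pow _ _ ((Nat.coprime_primes hr Nat.prime_two).2 hr2)
  have h2 := h1.dvd_of_dvd_mul_right (h.trans hN)
  obtain ⟨x, hx, hx'⟩ := prime_dvd_lcm hr ht _ (by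
    intro x hx
    obtain ⟨d, hd, rfl⟩ := Multiset.mem_map.1 hx
    have := Nat.one_lt_pow (n := d) (by have := hM d hd; omega) one_lt_two
    change 2 ^ d - 1 ≠ 0
    omega) h2
  obtain ⟨d, hd, rfl⟩ := Multiset.mem_map.1 hx
  exact ⟨d, hd, hx'⟩

theorem order_two {n d : ℕ} : n ∣ 2 ^ d - 1 ↔ orderOf (2 : ZMod n) ∣ d := by
  rw [orderOf_dvd_iff_pow_eq_one, ← ZMod.natCast_eq_zero_iff, Nat.cast_sub (Nat.one_le_pow _ _ two_pos), Nat.cast_pow,
    Nat.cast_one, sub_eq_zero]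
  rfl

theorem ne_two {r i : ℕ} (h : orderOf (2 : ZMod r) = i) (hi : 1 ≤ i) : r ≠ 2 := by
  rintro rfl
  have h1 := pow_orderOf_eq_one (2 : ZMod 2)
  rw [h] at h1
  have h2 : (2 : ZMod 2) = 0 := rfl
  rw [h2, zero_pow (by omega)] at h1
  exact absurd h1 (by decide)

/-- two different degrees -/
theorem two_mem {M : Multiset ℕ} {a b : ℕ} (ha : a ∈ M) (hb : b ∈ M) (hab : b ≠ a) :
    ∃ M', M = a ::ₘ b ::ₘ M' := by
  obtain ⟨M1, rfl⟩ := Multiset.exists_cons_of_mem ha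
  obtain ⟨M2, rfl⟩ := Multiset.exists_cons_of_mem ((Multiset.mem_cons.1 hb).resolve_left hab)
  exact ⟨M2, rfl⟩

theorem le_sum {M : Multiset ℕ} {a : ℕ} (ha : a ∈ M) : a ≤ M.sum := by
  obtain ⟨M1, rfl⟩ := Multiset.exists_cons_of_mem ha
  rw [Multiset.sum_cons]
  exact Nat.le_add_right _ _

/-- the common part -/
theorem pair_aux (hF : Fintype.card F = 2) {m : ℕ} {g : PL F m} {r p i s : ℕ} (hr : r.Prime) (hp : p.Prime)
    (hri : orderOf (2 : ZMod r) = i) (hps : orderOf (2 : ZMod p) = s) (hi : 1 ≤ i) (hs : 1 ≤ s) (h2i : m < 2 * i)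
    (hsi : ¬ s ∣ i) (h1 : r ∣ orderOf g) (h2 : p ∣ orderOf g) : ∃ (d : ℕ) (M : Multiset ℕ), s ∣ d ∧ d ≠ i ∧ 1 ≤ d ∧
    i + d + M.sum = m ∧ (∀ x ∈ M, 1 ≤ x) ∧
    ((i ::ₘ d ::ₘ M).Nodup → orderOf g ∣ ((i ::ₘ d ::ₘ M).map fun d => 2 ^ d - 1).lcm) := by
  obtain ⟨M, hsum, hM, ⟨a, ha⟩, hn⟩ := exists_deg hF g
  obtain ⟨d1, hd1, hd1'⟩ := exists_dvd hM ha hr (ne_two hri hi) le_rfl (by rwa [pow_one])
  obtain ⟨d2, hd2, hd2'⟩ := exists_dvd hM ha hp (ne_two hps hs) le_rfl (by rwa [pow_one])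
  rw [pow_one, order_two, hri] at hd1'
  rw [pow_one, order_two, hps] at hd2'
  have hd1i : d1 = i := by
    obtain ⟨k, hk⟩ := hd1'
    have h3 := le_sum hd1
    have h4 := hM d1 hd1
    have h5 : k = 1 := by
      rcases Nat.lt_or_ge k 1 with h6 | h6
      · have : k = 0 := by omega
        rw [this, mul_zero] at hk
        omega
      · rcases Nat.lt_or_ge 1 k with h7 | h7
        · have h8 : i * 2 ≤ i * k := Nat.mul_le_mul_left _ h7
          omega
        · omega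
    rw [hk, h5, mul_one]
  subst hd1i
  have hne : d2 ≠ d1 := by rintro rfl; exact hsi hd2'
  obtain ⟨M', rfl⟩ := two_mem hd1 hd2 hne
  refine ⟨d2, M', hd2', hne, hM d2 hd2, ?_, fun x hx => hM x (by simp [hx]), hn⟩
  rw [Multiset.sum_cons, Multiset.sum_cons] at hsum
  omega

/-- two primes -/
theorem pair_le (hF : Fintype.card F = 2) {m : ℕ} {g : PL F m} {r p i s : ℕ} (hr : r.Prime) (hp : p.Prime)
    (hri : orderOf (2 : ZMod r) = i) (hps : orderOf (2 : ZMod p) = s) (hi : 1 ≤ i) (hs : 1 ≤ s) (h2i : m < 2 * i) (hsi : ¬ s ∣ i)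
    (h1 : r ∣ orderOf g) (h2 : p ∣ orderOf g) : i + s ≤ m := by
  obtain ⟨d, M, hd, -, hd1, hsum, -⟩ := pair_aux hF hr hp hri hps hi hs h2i hsi h1 h2
  have := Nat.le_of_dvd hd1 hd
  omega

/-- tight elements -/
theorem tight (hF : Fintype.card F = 2) {m : ℕ} {g : PL F m} {r p i s : ℕ} (hr : r.Prime) (hp : p.Prime)
    (hri : orderOf (2 : ZMod r) = i) (hps : orderOf (2 : ZMod p) = s) (hi : 1 ≤ i) (hs : 1 ≤ s) (h2i : m < 2 * i) (hsi : ¬ s ∣ i)
    (his : i + s = m) (h1 : r ∣ orderOf g) (h2 : p ∣ orderOf g) : orderOf g ∣ (2 ^ i - 1) * (2 ^ s - 1) := by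
  obtain ⟨d, M, hd, hdi, hd1, hsum, hM, hn⟩ := pair_aux hF hr hp hri hps hi hs h2i hsi h1 h2
  have hds := Nat.le_of_dvd hd1 hd
  have hds' : d = s := by omega
  have hM0 : M = 0 := by
    rw [Multiset.eq_zero_iff_forall_notMem]
    intro x hx
    have h3 := le_sum hx
    have h4 := hM x hx
    omega
  subst hds' hM0
  refine (hn ?_).trans ?_
  · rw [Multiset.nodup_cons]
    refine ⟨?_, by simp⟩
    simp only [Multiset.mem_cons, Multiset.notMem_zero, or_false]
    exact fun h => hdi h.symm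
  · simp only [Multiset.map_cons, Multiset.map_zero, Multiset.lcm_cons, Multiset.lcm_zero]
    have h5 : lcm (2 ^ d - 1) 1 = 2 ^ d - 1 := by simp
    rw [h5]
    exact Nat.lcm_dvd_mul _ _

/-- one big prime and two medium ones -/
theorem triple_le (hF : Fintype.card F = 2) {m : ℕ} {g : PL F m} {r p q i s t : ℕ} (hr : r.Prime) (hp : p.Prime) (hq : q.Prime)
    (hri : orderOf (2 : ZMod r) = i) (hps : orderOf (2 : ZMod p) = s) (hqt : orderOf (2 : ZMod q) = t) (hi : 1 ≤ i)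
    (h2i : m < 2 * i) (hst : s ≠ t) (hs : m < 4 * s) (ht : m < 4 * t) (hsi : ¬ s ∣ i) (hti : ¬ t ∣ i)
    (h1 : r ∣ orderOf g) (h2 : p ∣ orderOf g) (h3 : q ∣ orderOf g) : False := by
  obtain ⟨M, hsum, hM, ⟨a, ha⟩, -⟩ := exists_deg hF g
  have hs1 : 1 ≤ s := by omega
  have ht1 : 1 ≤ t := by omega
  obtain ⟨d1, hd1, hd1'⟩ := exists_dvd hM ha hr (ne_two hri hi) le_rfl (by rwa [pow_one])
  obtain ⟨d2, hd2, hd2'⟩ := exists_dvd hM ha hp (ne_two hps hs1) le_rfl (by rwa [pow_one])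
  obtain ⟨d3, hd3, hd3'⟩ := exists_dvd hM ha hq (ne_two hqt ht1) le_rfl (by rwa [pow_one])
  rw [pow_one, order_two, hri] at hd1'
  rw [pow_one, order_two, hps] at hd2'
  rw [pow_one, order_two, hqt] at hd3'
  have key : ∀ {k d : ℕ}, 1 ≤ d → k ∣ d → d < 2 * k → d = k := by
    intro k d hd1 hkd hlt
    obtain ⟨l, rfl⟩ := hkd
    have hl : l = 1 := by
      rcases Nat.lt_or_ge l 1 with h6 | h6
      · have : l = 0 := by omega
        rw [this, mul_zero] at hd1
        omega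
      · rcases Nat.lt_or_ge 1 l with h7 | h7
        · have h8 : k * 2 ≤ k * l := Nat.mul_le_mul_left _ h7
          omega
        · omega
    rw [hl, mul_one]
  have hd1i : d1 = i := key (hM d1 hd1) hd1' (by have := le_sum hd1; omega)
  subst hd1i
  have hne2 : d2 ≠ d1 := by rintro rfl; exact hsi hd2'
  have hne3 : d3 ≠ d1 := by rintro rfl; exact hti hd3'
  obtain ⟨M1, rfl⟩ := Multiset.exists_cons_of_mem hd1
  have hm2 := (Multiset.mem_cons.1 hd2).resolve_left hne2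
  have hm3 := (Multiset.mem_cons.1 hd3).resolve_left hne3
  rw [Multiset.sum_cons] at hsum
  have hd2s : d2 = s := key (hM d2 hd2) hd2' (by have := le_sum hm2; omega)
  have hd3t : d3 = t := key (hM d3 hd3) hd3' (by have := le_sum hm3; omega)
  subst hd2s hd3t
  obtain ⟨M', rfl⟩ := two_mem hm2 hm3 hst.symm
  rw [Multiset.sum_cons, Multiset.sum_cons] at hsum
  omega

theorem prime_pow (hF : Fintype.card F = 2) {m r t : ℕ} (hr : r.Prime) (hr2 : r ≠ 2) (ht : 1 ≤ t) {g : PL F m} (h : r ^ t ∣ orderOf g) :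
    ∃ i, 1 ≤ i ∧ i ≤ m ∧ r ^ t ∣ 2 ^ i - 1 ∧ orderOf (2 : ZMod (r ^ t)) = i := by
  obtain ⟨M, hsum, hM, ⟨a, ha⟩, -⟩ := exists_deg hF g
  obtain ⟨d, hd, hd'⟩ := exists_dvd hM ha hr hr2 ht h
  have h1 := order_two.1 hd'
  have h2 := hM d hd
  have h3 := Nat.le_of_dvd h2 h1
  have h4 : 1 ≤ orderOf (2 : ZMod (r ^ t)) := Nat.pos_of_dvd_of_pos h1 h2
  exact ⟨_, h4, h3.trans (hsum ▸ le_sum hd), order_two.2 dvd_rfl, rfl⟩

/-! ### The group is `GL_m(2)` -/

theorem toGL_bij (hF : Fintype.card F = 2) (m : ℕ) :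
    Function.Bijective (Matrix.SpecialLinearGroup.toGL (n := Fin m) (R := F)) := by
  refine ⟨fun a b hab => Subtype.ext (congrArg Units.val hab), fun g => ?_⟩
  have h1 : (g : Matrix (Fin m) (Fin m) F).det = 1 := by
    refine (two_cases hF _).resolve_left fun h => ?_
    have h4 : IsUnit (g : Matrix (Fin m) (Fin m) F).det := (Matrix.isUnit_iff_isUnit_det _).1 g.isUnit
    rw [h] at h4
    exact not_isUnit_zero h4
  exact ⟨⟨g, h1⟩, Units.ext rfl⟩

theorem mk_bij (hF : Fintype.card F = 2) (m : ℕ) :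
    Function.Bijective (QuotientGroup.mk' (Subgroup.center (Matrix.SpecialLinearGroup (Fin m) F))) := by
  refine ⟨?_, QuotientGroup.mk'_surjective _⟩
  rw [← MonoidHom.ker_eq_bot_iff, QuotientGroup.ker_mk', eq_bot_iff]
  intro x hx
  rw [Matrix.SpecialLinearGroup.mem_center_iff] at hx
  obtain ⟨r, hr, hx⟩ := hx
  rw [Subgroup.mem_bot]
  rcases two_cases hF r with rfl | rfl
  · rcases Nat.eq_zero_or_pos m with rfl | hm
    · exact Subsingleton.elim _ _
    · rw [Fintype.card_fin, zero_pow hm.ne'] at hr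
      exact absurd hr zero_ne_one
  · apply Subtype.ext
    rw [← hx, map_one]
    rfl

/-- `PSL_m(2) = GL_m(2)` -/
noncomputable def eGL (hF : Fintype.card F = 2) (m : ℕ) : GL (Fin m) F ≃* PL F m :=
  (MulEquiv.ofBijective _ (toGL_bij hF m)).symm.trans (MulEquiv.ofBijective _ (mk_bij hF m))

theorem card_PL (hF : Fintype.card F = 2) (m : ℕ) : Nat.card (PL F m) = ∏ i : Fin m, (2 ^ m - 2 ^ (i : ℕ)) := by
  rw [← Nat.card_congr (eGL hF m).toEquiv, Matrix.card_GL_field, hF]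

theorem dvd_card (hF : Fintype.card F = 2) {m r : ℕ} (hr : r.Prime) (hr2 : r ≠ 2) :
    r ∣ Nat.card (PL F m) ↔ orderOf (2 : ZMod r) ≤ m := by
  have hfr : Fact r.Prime := ⟨hr⟩
  have h20 : (2 : ZMod r) ≠ 0 := by
    intro h
    have h1 : ((2 : ℕ) : ZMod r) = 0 := h
    rw [ZMod.natCast_eq_zero_iff] at h1
    exact hr2 ((Nat.prime_dvd_prime_iff_eq hr Nat.prime_two).1 h1)
  have hpos : 0 < orderOf (2 : ZMod r) := by
    rw [orderOf_pos_iff, isOfFinOrder_iff_pow_eq_one]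
    exact ⟨r - 1, Nat.sub_pos_of_lt hr.one_lt, ZMod.pow_card_sub_one_eq_one h20⟩
  rw [card_PL hF, Prime.dvd_finsetProd_iff hr.prime]
  constructor
  · rintro ⟨i, -, hi⟩
    have h1 : 2 ^ m - 2 ^ (i : ℕ) = 2 ^ (i : ℕ) * (2 ^ (m - i) - 1) := by
      rw [Nat.mul_sub, ← pow_add, mul_one, Nat.add_sub_cancel' i.2.le]
    rw [h1] at hi
    have h2 := (hr.dvd_mul.1 hi).resolve_left fun h =>
      hr2 ((Nat.prime_dvd_prime_iff_eq hr Nat.prime_two).1 (hr.dvd_of_dvd_pow h))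
    rw [order_two] at h2
    have h3 := Nat.le_of_dvd (Nat.sub_pos_of_lt i.2) h2
    omega
  · intro h
    refine ⟨⟨m - orderOf (2 : ZMod r), by omega⟩, Finset.mem_univ _, ?_⟩
    have h1 : 2 ^ m - 2 ^ (m - orderOf (2 : ZMod r)) =
        2 ^ (m - orderOf (2 : ZMod r)) * (2 ^ orderOf (2 : ZMod r) - 1) := by
      rw [Nat.mul_sub, ← pow_add, mul_one, Nat.sub_add_cancel h]
    change r ∣ 2 ^ m - 2 ^ (m - orderOf (2 : ZMod r))
    rw [h1]
    exact (order_two.2 dvd_rfl).mul_left _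

/-- units of algebras give elements -/
theorem exists_of_unit (hF : Fintype.card F = 2) {m : ℕ} {R : Type} [CommRing R] [Finite R] [CharP R 2]
    (hR : Nat.card R = 2 ^ m) {u : R} (hu : IsUnit u) : ∃ g : PL F m, orderOf g = orderOf u := by
  classical
  have h2 : Fact (Nat.Prime 2) := ⟨Nat.prime_two⟩
  have hch : CharP F 2 := by
    have := ringChar.charP F
    rwa [ringChar_two hF] at this
  let e : F ≃+* ZMod 2 := (ZMod.ringEquivOfPrime F Nat.prime_two hF).symm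
  let _ : Algebra F R := ((ZMod.castHom (dvd_refl 2) R).comp (e : F →+* ZMod 2)).toAlgebra
  have hfin : Module.Finite F R := Module.Finite.of_finite
  have hrank : Module.finrank F R = m := by
    have h3 := Module.natCard_eq_pow_finrank (K := F) (V := R)
    rw [hR, Nat.card_eq_fintype_card, hF] at h3
    exact (Nat.pow_right_injective le_rfl h3).symm
  let b : Module.Basis (Fin m) F R := Module.finBasisOfFinrankEq F R hrank
  let φ : Rˣ →* GL (Fin m) F := Units.map (Algebra.leftMulMatrix b : R →* Matrix (Fin m) (Fin m) F)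
  have hφ : Function.Injective φ := Units.map_injective (Algebra.leftMulMatrix_injective b)
  refine ⟨eGL hF m (φ hu.unit), ?_⟩
  rw [MulEquiv.orderOf_eq, orderOf_injective φ hφ, ← orderOf_units, IsUnit.unit_spec]

theorem exists_gen {i : ℕ} (hi : 1 ≤ i) : ∃ u : GaloisField 2 i, IsUnit u ∧ orderOf u = 2 ^ i - 1 := by
  have h2 : Fact (Nat.Prime 2) := ⟨Nat.prime_two⟩
  have hfin : Finite (GaloisField 2 i) := by
    apply Nat.finite_of_card_ne_zero
    rw [GaloisField.card 2 i (by omega)]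
    positivity
  obtain ⟨u, hu⟩ := IsCyclic.exists_generator (α := (GaloisField 2 i)ˣ)
  refine ⟨u, u.isUnit, ?_⟩
  rw [orderOf_units, orderOf_eq_card_of_forall_mem_zpowers hu, Nat.card_units, GaloisField.card 2 i (by omega)]

theorem exists_pair (hF : Fintype.card F = 2) {m i s : ℕ} (hi : 1 ≤ i) (hs : 1 ≤ s) (h : i + s ≤ m) : ∃ g : PL F m,
    orderOf g = Nat.lcm (2 ^ i - 1) (2 ^ s - 1) := by
  have h2 : Fact (Nat.Prime 2) := ⟨Nat.prime_two⟩
  have hfin : ∀ {i : ℕ}, 1 ≤ i → Finite (GaloisField 2 i) := by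
    intro i hi
    apply Nat.finite_of_card_ne_zero
    rw [GaloisField.card 2 i (by omega)]
    positivity
  have hf1 := hfin hi
  have hf2 := hfin hs
  obtain ⟨u, hu, hu'⟩ := exists_gen hi
  obtain ⟨v, hv, hv'⟩ := exists_gen hs
  let R := (GaloisField 2 i × GaloisField 2 s) × (Fin (m - i - s) → ZMod 2)
  have hch : CharP (GaloisField 2 i × GaloisField 2 s) 2 := inferInstance
  have hchR : CharP R 2 := by
    have : ∀ n : ℕ, ((n : R) = 0 ↔ 2 ∣ n) := by
      intro n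
      rw [← CharP.cast_eq_zero_iff (GaloisField 2 i) 2 n]
      constructor
      · intro h
        exact congrArg (fun x : R => x.1.1) h
      · intro h
        have h3 : 2 ∣ n := (CharP.cast_eq_zero_iff (GaloisField 2 i) 2 n).1 h
        refine Prod.ext (Prod.ext h ?_) ?_
        · exact (CharP.cast_eq_zero_iff (GaloisField 2 s) 2 n).2 h3
        · funext j
          exact (CharP.cast_eq_zero_iff (ZMod 2) 2 n).2 h3
    exact ⟨this⟩
  have hR : Nat.card R = 2 ^ m := by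
    rw [Nat.card_prod, Nat.card_prod, GaloisField.card 2 i (by omega), GaloisField.card 2 s (by omega), Nat.card_fun,
      Nat.card_zmod, Nat.card_fin, ← pow_add, ← pow_add]
    congr 1
    omega
  obtain ⟨g, hg⟩ := exists_of_unit hF hR (u := ((u, v), 1)) (by
    rw [Prod.isUnit_iff, Prod.isUnit_iff]
    exact ⟨⟨hu, hv⟩, isUnit_one⟩)
  refine ⟨g, ?_⟩
  rw [hg, Prod.orderOf, Prod.orderOf]
  change Nat.lcm (Nat.lcm (orderOf u) (orderOf v)) (orderOf (1 : Fin (m - i - s) → ZMod 2)) = _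
  rw [hu', hv', orderOf_one, Nat.lcm_one_right]

theorem exists_one (hF : Fintype.card F = 2) {m i : ℕ} (hi : 1 ≤ i) (h : i ≤ m) : ∃ g : PL F m, orderOf g = 2 ^ i - 1 := by
  rcases Nat.lt_or_ge i m with h1 | h1
  · obtain ⟨g, hg⟩ := exists_pair hF hi le_rfl (h1 : i + 1 ≤ m)
    refine ⟨g, ?_⟩
    rw [hg, pow_one]
    exact Nat.lcm_one_right _
  · obtain rfl : i = m := le_antisymm h h1
    have h2 : Fact (Nat.Prime 2) := ⟨Nat.prime_two⟩
    have hfin : Finite (GaloisField 2 i) := by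
      apply Nat.finite_of_card_ne_zero
      rw [GaloisField.card 2 i (by omega)]
      positivity
    obtain ⟨u, hu, hu'⟩ := exists_gen hi
    obtain ⟨g, hg⟩ := exists_of_unit hF (GaloisField.card 2 i (by omega)) hu
    exact ⟨g, hg.trans hu'⟩

end Cfsg.Agent.H188.Fac.PLTwo
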